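import Groth.Prelude.Def_Smoothing
import Mathlib.RingTheory.Smooth.StandardSmooth
import Mathlib.RingTheory.Localization.Away.Basic
import Mathlib.LinearAlgebra.Matrix.NonsingularInverse
import Mathlib.LinearAlgebra.Matrix.SchurComplement

set_option autoImplicit false
set_option linter.unusedSectionVars false

namespace Groth.Agent.Smoothing15

universe u

open MvPolynomial

/-- Nakayama by determinants -/
lemma exists_mul_mem_of_mul_mem_sup_sq {P A : Type*} [CommRing P] [CommRing A] (φ : P →+* A)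
    {m : ℕ} (f : Fin m → P) (F : Ideal P) (a' : P) (hφ : ∀ i, φ (f i) = 0)
    (h : ∀ j, a' * f j ∈ F ⊔ Ideal.span (Set.range f) ^ 2) :
    ∃ G : P, φ G = φ a' ^ m ∧ ∀ j, G * f j ∈ F := by
  classical
  have hrow : ∀ j, ∃ M : Fin m → P, (∀ l, φ (M l) = 0) ∧ a' * f j - ∑ l, M l * f l ∈ F := by
    intro j
    obtain ⟨x, hx, y, hy, hxy⟩ := Submodule.mem_sup.1 (h j)
    rw [sq, ← smul_eq_mul] at hy
    obtain ⟨M, hM, hMy⟩ := (Submodule.mem_ideal_smul_span_iff_exists_sum _ f y).1 hy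
    refine ⟨fun l => M l, fun l => ?_, ?_⟩
    · exact (Ideal.span_le (I := RingHom.ker φ)).2 (by rintro _ ⟨i, rfl⟩; exact hφ i) (hM l)
    · have hsum : ∑ l, M l * f l = y := by
        rw [← hMy, Finsupp.sum_fintype _ _ (fun i => by simp)]; rfl
      rw [hsum, ← hxy, add_sub_cancel_right]; exact hx
  choose M hM hMF using hrow
  let N : Matrix (Fin m) (Fin m) P := a' • (1 : Matrix (Fin m) (Fin m) P) - Matrix.of M
  refine ⟨N.det, ?_, fun j => ?_⟩
  · rw [RingHom.map_det]
    have : φ.mapMatrix N = φ a' • (1 : Matrix (Fin m) (Fin m) A) := by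
      refine Matrix.ext fun i l => ?_
      rcases eq_or_ne i l with h | h <;> simp [N, hM, Matrix.one_apply, h]
    rw [this, Matrix.det_smul, Fintype.card_fin, Matrix.det_one, mul_one]
  · have h1 : ∀ l, (N.mulVec f) l ∈ F := fun l => by
      have : (N.mulVec f) l = a' * f l - ∑ i, M l i * f i := by
        simp [N, Matrix.sub_mulVec, Matrix.smul_mulVec, Matrix.one_mulVec]
        rfl
      rw [this]; exact hMF l
    have h2 : N.det * f j = (N.adjugate.mulVec (N.mulVec f)) j := by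
      rw [Matrix.mulVec_mulVec, Matrix.adjugate_mul, Matrix.smul_mulVec, Matrix.one_mulVec]
      rfl
    rw [h2]
    change ∑ l, N.adjugate j l * N.mulVec f l ∈ F
    exact Ideal.sum_mem _ fun l _ => Ideal.mul_mem_left _ _ (h1 l)

variable {R A : Type u} [CommRing R] [CommRing A] [Algebra R A]

theorem isStandardSmooth_away_of_isElementaryStandard (a : A)
    (ha : Smoothing.IsElementaryStandard R A a) :
    Algebra.IsStandardSmooth R (Localization.Away a) := by
  classical
  obtain ⟨P, ⟨a1, ha1⟩, hkill⟩ := ha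
  obtain ⟨a', ha'⟩ := P.surj a
  let f' : Fin P.c → MvPolynomial (Fin P.n) R := fun i => P.rel (Fin.castLE P.hcm i)
  have hrel0 : ∀ i, P.hom (P.rel i) = 0 := fun i => by
    have : P.rel i ∈ RingHom.ker P.hom.toRingHom := P.ker_eq ▸ Ideal.subset_span ⟨i, rfl⟩
    exact this
  have himg : Ideal.span (P.rel '' {j' : Fin P.m | (j' : ℕ) < P.c}) = Ideal.span (Set.range f') := by
    congr 1
    ext x
    constructor
    · rintro ⟨j, hj, rfl⟩; exact ⟨⟨j, hj⟩, rfl⟩
    · rintro ⟨i, rfl⟩; exact ⟨_, i.2, rfl⟩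
  obtain ⟨G, hG, hGF⟩ := exists_mul_mem_of_mul_mem_sup_sq P.hom.toRingHom P.rel
    (Ideal.span (Set.range f')) a' hrel0 (fun j => by
      rcases lt_or_ge (j : ℕ) P.c with hj | hj
      · exact Ideal.mem_sup_left (Ideal.mul_mem_left _ _ (Ideal.subset_span ⟨⟨j, hj⟩, rfl⟩))
      · rw [← himg]; exact hkill a' ha' j hj)
  let H := a' * G
  have hH : P.hom H = a ^ (P.m + 1) := by
    rw [map_mul, show P.hom G = P.hom a' ^ P.m from hG, ha', pow_succ']
  let ren := MvPolynomial.rename (R := R) (Sum.inl : Fin P.n → Fin P.n ⊕ Unit)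
  let v : Fin P.c ⊕ Unit → MvPolynomial (Fin P.n ⊕ Unit) R :=
    Sum.elim (fun i => ren (f' i)) (fun _ => ren H * X (Sum.inr ()) - 1)
  let mp : Fin P.c ⊕ Unit → Fin P.n ⊕ Unit := Sum.map (Fin.castLE P.hcn) id
  have hmp : Function.Injective mp :=
    Sum.map_injective.2 ⟨Fin.castLE_injective _, Function.injective_id⟩
  let C := MvPolynomial (Fin P.n ⊕ Unit) R ⧸ Ideal.span (Set.range v)
  let q : MvPolynomial (Fin P.n ⊕ Unit) R →ₐ[R] C := Ideal.Quotient.mkₐ R _
  let S := Localization.Away a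
  -- the map to the localization
  let Φ₀ : MvPolynomial (Fin P.n ⊕ Unit) R →ₐ[R] S :=
    aeval (Sum.elim (fun i => algebraMap A S (P.hom (X i)))
      (fun _ => (IsLocalization.Away.invSelf a : S) ^ (P.m + 1)))
  have hren : Φ₀.comp ren = (IsScalarTower.toAlgHom R A S).comp P.hom := by
    ext i; simp [Φ₀, ren]
  have hren' : ∀ x, Φ₀ (ren x) = algebraMap A S (P.hom x) := fun x => AlgHom.congr_fun hren x
  have hΦv : ∀ x ∈ Ideal.span (Set.range v), Φ₀ x = 0 := by
    intro x hx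
    refine RingHom.mem_ker.1 ((Ideal.span_le (I := RingHom.ker Φ₀)).2 ?_ hx)
    rintro _ ⟨i | i, rfl⟩
    · exact RingHom.mem_ker.2 (by simp [v, hren', hrel0, f'])
    · refine RingHom.mem_ker.2 ?_
      simp only [v, Sum.elim_inr, map_sub, map_mul, map_one, hren', hH, map_pow]
      simp only [Φ₀, aeval_X, Sum.elim_inr]
      rw [← mul_pow, IsLocalization.Away.mul_invSelf, one_pow, sub_self]
  let Φ : C →ₐ[R] S := Ideal.Quotient.liftₐ _ Φ₀ hΦv
  -- the inverse
  have hHu : IsUnit (q (ren H)) := by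
    refine IsUnit.of_mul_eq_one (q (X (Sum.inr ()))) ?_
    rw [← map_mul, ← sub_eq_zero, ← map_one q, ← map_sub]
    exact Ideal.Quotient.eq_zero_iff_mem.2 (Ideal.subset_span ⟨Sum.inr (), rfl⟩)
  let Ψ₀ : MvPolynomial (Fin P.n) R →ₐ[R] C := q.comp ren
  have hGu : IsUnit (Ψ₀ G) := by
    have h1 : IsUnit (Ψ₀ (a' * G)) := hHu
    rw [map_mul] at h1
    exact isUnit_of_mul_isUnit_right h1
  have hau : IsUnit (Ψ₀ a') := by
    have h1 : IsUnit (Ψ₀ (a' * G)) := hHu
    rw [map_mul] at h1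
    exact isUnit_of_mul_isUnit_left h1
  have hF : ∀ x ∈ Ideal.span (Set.range f'), Ψ₀ x = 0 := by
    intro x hx
    refine RingHom.mem_ker.1 ((Ideal.span_le (I := RingHom.ker Ψ₀)).2 ?_ hx)
    rintro _ ⟨i, rfl⟩
    exact Ideal.Quotient.eq_zero_iff_mem.2 (Ideal.subset_span ⟨Sum.inl i, rfl⟩)
  have hΨrel : ∀ x, P.hom x = 0 → Ψ₀ x = 0 := by
    intro x hx
    have hx' : x ∈ Ideal.span (Set.range P.rel) := P.ker_eq ▸ (show x ∈ RingHom.ker P.hom.toRingHom from hx)
    refine RingHom.mem_ker.1 ((Ideal.span_le (I := RingHom.ker Ψ₀)).2 ?_ hx')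
    rintro _ ⟨i, rfl⟩
    have h1 := hF _ (hGF i)
    rw [map_mul] at h1
    exact RingHom.mem_ker.2 ((hGu.mul_right_eq_zero).1 h1)
  let Ψ₁ : A →ₐ[R] C := AlgHom.liftOfSurjective P.hom P.surj Ψ₀
    (fun x hx => RingHom.mem_ker.2 (hΨrel x (RingHom.mem_ker.1 hx)))
  have hΨ₁ : ∀ x, Ψ₁ (P.hom x) = Ψ₀ x := fun x => by
    simp [Ψ₁]
  let Ψ : S →ₐ[R] C := IsLocalization.liftAlgHom (M := Submonoid.powers a) (f := Ψ₁) (fun y => by
    obtain ⟨m, hm⟩ := y.2
    rw [← hm, map_pow, ← ha', hΨ₁]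
    exact hau.pow m)
  have hΨ : ∀ x : A, Ψ (algebraMap A S x) = Ψ₁ x := fun x => by simp [Ψ, IsLocalization.liftAlgHom]
  have hΦq : ∀ x, Φ (q x) = Φ₀ x := fun x => rfl
  have h12 : Ψ.comp Φ = AlgHom.id R C := by
    refine Ideal.Quotient.algHom_ext R (MvPolynomial.algHom_ext fun i => ?_)
    change Ψ (Φ₀ (X i)) = q (X i)
    rcases i with i | i
    · simp [Φ₀, hΨ, hΨ₁, Ψ₀, ren]
    · refine hHu.mul_left_cancel ?_
      have e1 : q (ren H) = Ψ (algebraMap A S (P.hom H)) := by rw [hΨ, hΨ₁]; rfl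
      conv_lhs => rw [e1, ← map_mul, hH, map_pow]
      simp only [Φ₀, aeval_X, Sum.elim_inr]
      rw [← mul_pow, IsLocalization.Away.mul_invSelf, one_pow, map_one, ← map_mul, eq_comm,
        ← sub_eq_zero, ← map_one q, ← map_sub]
      exact Ideal.Quotient.eq_zero_iff_mem.2 (Ideal.subset_span ⟨Sum.inr (), rfl⟩)
  have h21 : Φ.comp Ψ = AlgHom.id R S := by
    refine IsLocalization.algHom_ext (Submonoid.powers a) (AlgHom.ext fun x => ?_)
    obtain ⟨x, rfl⟩ := P.surj x
    change Φ (Ψ (algebraMap A S (P.hom x))) = algebraMap A S (P.hom x)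
    rw [hΨ, hΨ₁, ← hren']
    rfl
  let e : C ≃ₐ[R] S := AlgEquiv.ofAlgHom Φ Ψ h21 h12
  -- the presentation
  let Q : Algebra.PreSubmersivePresentation R C (Fin P.n ⊕ Unit) (Fin P.c ⊕ Unit) :=
    Algebra.PreSubmersivePresentation.naive mp hmp
  have hjac : IsUnit Q.jacobian := by
    rw [Algebra.PreSubmersivePresentation.jacobian_eq_jacobiMatrix_det]
    change IsUnit (q _)
    have hJ : ∀ i j, Q.jacobiMatrix i j = pderiv (mp i) (v j) := fun i j =>
      Algebra.PreSubmersivePresentation.jacobiMatrix_apply _ _ _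
    have hd : Q.jacobiMatrix.det =
        ren (Smoothing.jacobianMinor P.rel (Fin.castLE P.hcm) (Fin.castLE P.hcn)) * ren H := by
      rw [← Matrix.fromBlocks_toBlocks Q.jacobiMatrix]
      have h21' : Q.jacobiMatrix.toBlocks₂₁ = 0 := by
        refine Matrix.ext fun u i => ?_
        simp only [Matrix.toBlocks₂₁, Matrix.of_apply, Matrix.zero_apply,
          hJ, v, mp, Sum.elim_inl, Sum.map_inr, id]
        refine MvPolynomial.pderiv_eq_zero_of_notMem_vars fun hmem => ?_
        have hsub := MvPolynomial.vars_rename (Sum.inl : Fin P.n → Fin P.n ⊕ Unit) (f' i) hmem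
        simp at hsub
      rw [h21', Matrix.det_fromBlocks_zero₂₁]
      congr 1
      · unfold Smoothing.jacobianMinor
        rw [← Matrix.det_transpose, AlgHom.map_det]
        congr 1
        refine Matrix.ext fun i j => ?_
        simp only [Matrix.toBlocks₁₁, Matrix.transpose_apply, Matrix.of_apply,
          hJ, v, mp, Sum.elim_inl, Sum.map_inl,
          AlgHom.mapMatrix_apply, Matrix.map_apply, ren]
        exact MvPolynomial.pderiv_rename Sum.inl_injective _ _
      · rw [Matrix.det_unique]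
        simp only [Matrix.toBlocks₂₂, Matrix.of_apply,
          hJ, v, mp, Sum.elim_inr, Sum.map_inr, id]
        have h0 : pderiv (Sum.inr ()) (ren H) = 0 := by
          refine MvPolynomial.pderiv_eq_zero_of_notMem_vars fun hmem => ?_
          have hsub := MvPolynomial.vars_rename (Sum.inl : Fin P.n → Fin P.n ⊕ Unit) H hmem
          simp at hsub
        simp [h0]
    rw [hd, map_mul]
    refine IsUnit.mul ?_ hHu
    change IsUnit (Ψ₀ _)
    rw [← hΨ₁]
    have := hau
    rw [← hΨ₁, ha', ha1, map_mul] at this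
    exact isUnit_of_mul_isUnit_right this
  haveI : Algebra.IsStandardSmooth R C :=
    (Algebra.SubmersivePresentation.mk Q hjac).isStandardSmooth
  exact Algebra.IsStandardSmooth.of_algEquiv e

end Groth.Agent.Smoothing15
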